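import Mathlib
import Cfsg.Agent.Lib.Transfer.Frobenius
import Cfsg.Agent.Lib.Transfer.Alperin

/-!
The prime two for a nilpotent maximal invariant subgroup whose Sylow 2-subgroup has class at most
two: every essential centre would have an orbit of odd length of pairwise non-commuting centres,
which the class two condition forbids; hence no fusion outside the subgroup.
-/

namespace CfsgLib.NilMaxAction

open scoped commutatorElement

set_option autoImplicit false
set_option linter.style.haveILetI false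

variable {G : Type*} [Group G]

/-- The centre of `E`, as a subgroup of `G`. -/
def zc (E : Subgroup G) : Subgroup G := E ⊓ Subgroup.centralizer (E : Set G)

theorem mem_zc {E : Subgroup G} {x : G} : x ∈ zc E ↔ x ∈ E ∧ ∀ e ∈ E, e * x = x * e := by
  simp [zc, Subgroup.mem_centralizer_iff]

theorem zc_comm {E : Subgroup G} {x y : G} (hx : x ∈ zc E) (hy : y ∈ zc E) : x * y = y * x :=
  (mem_zc.mp hy).2 x (mem_zc.mp hx).1

/-- The elements of order at most two of the centre of `E`. -/
def u1 (E : Subgroup G) : Subgroup G where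
  carrier := {x | x ∈ zc E ∧ x * x = 1}
  one_mem' := ⟨one_mem _, one_mul 1⟩
  mul_mem' := by
    rintro x y ⟨hx, hx2⟩ ⟨hy, hy2⟩
    refine ⟨mul_mem hx hy, ?_⟩
    calc x * y * (x * y) = x * (y * x) * y := by group
      _ = x * (x * y) * y := by rw [zc_comm hy hx]
      _ = x * x * (y * y) := by group
      _ = 1 := by rw [hx2, hy2, one_mul]
  inv_mem' := by
    rintro x ⟨hx, hx2⟩
    exact ⟨inv_mem hx, by rw [← mul_inv_rev, hx2, inv_one]⟩

theorem mem_u1 {E : Subgroup G} {x : G} : x ∈ u1 E ↔ x ∈ zc E ∧ x * x = 1 := Iff.rfl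

theorem u1_le_zc (E : Subgroup G) : u1 E ≤ zc E := fun _ hx => hx.1

theorem map_zc (f : G ≃* G) (E : Subgroup G) :
    (zc E).map f.toMonoidHom = zc (E.map f.toMonoidHom) := by
  ext x
  simp only [Subgroup.mem_map_equiv, mem_zc]
  constructor
  · rintro ⟨h1, h2⟩
    refine ⟨h1, fun e he => f.symm.injective ?_⟩
    rw [map_mul, map_mul]; exact h2 _ he
  · rintro ⟨h1, h2⟩
    refine ⟨h1, fun e he => f.injective ?_⟩
    have := h2 (f e) (by simpa using he)
    simpa using this

theorem map_u1 (f : G ≃* G) (E : Subgroup G) :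
    (u1 E).map f.toMonoidHom = u1 (E.map f.toMonoidHom) := by
  ext x
  rw [Subgroup.mem_map_equiv, mem_u1, mem_u1, ← map_zc, Subgroup.mem_map_equiv, ← map_mul]
  exact and_congr_right fun _ => by rw [MulEquiv.map_eq_one_iff]

theorem map_inf_centralizer_equiv (f : G ≃* G) (K U : Subgroup G) :
    (K ⊓ Subgroup.centralizer (U : Set G)).map f.toMonoidHom =
      K.map f.toMonoidHom ⊓ Subgroup.centralizer ((U.map f.toMonoidHom : Subgroup G) : Set G) := by
  ext x
  simp only [Subgroup.mem_map_equiv, Subgroup.mem_inf, Subgroup.mem_centralizer_iff, SetLike.mem_coe]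
  refine and_congr_right fun _ => ⟨fun h e he => f.symm.injective ?_, fun h e he => f.injective ?_⟩
  · rw [map_mul, map_mul]; exact h _ he
  · have := h (f e) (by simpa using he)
    simpa using this

theorem mem_normalizer_of_conj [Finite G] {E : Subgroup G} {h : G}
    (hh : ∀ x ∈ E, h * x * h⁻¹ ∈ E) : h ∈ Subgroup.normalizer (E : Set G) := by
  have heq : E.map (MulAut.conj h).toMonoidHom = E := by
    refine Subgroup.eq_of_le_of_card_ge ?_
      (le_of_eq (Subgroup.card_map_of_injective (MulAut.conj h).injective).symm)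
    rintro _ ⟨x, hx, rfl⟩
    exact hh x hx
  rw [Subgroup.mem_normalizer_iff]
  intro x
  refine ⟨hh x, fun hx => ?_⟩
  rw [← heq, Subgroup.mem_map_equiv] at hx
  simpa [MulAut.conj_symm_apply, mul_assoc] using hx

theorem conj_comm {E : Subgroup G} {h x : G} (hh : h ∈ Subgroup.normalizer (E : Set G))
    (hx : ∀ e ∈ E, e * x = x * e) : ∀ e ∈ E, e * (h * x * h⁻¹) = h * x * h⁻¹ * e := by
  intro e he
  have h1 : h⁻¹ * e * h ∈ E := by
    have := (Subgroup.mem_normalizer_iff.mp (inv_mem hh) e).mp he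
    simpa using this
  calc e * (h * x * h⁻¹) = h * ((h⁻¹ * e * h) * x) * h⁻¹ := by group
    _ = h * (x * (h⁻¹ * e * h)) * h⁻¹ := by rw [hx _ h1]
    _ = h * x * h⁻¹ * e := by group

theorem conj_mem_zc {E : Subgroup G} {h x : G} (hh : h ∈ Subgroup.normalizer (E : Set G))
    (hx : x ∈ zc E) : h * x * h⁻¹ ∈ zc E :=
  mem_zc.mpr ⟨(Subgroup.mem_normalizer_iff.mp hh x).mp (mem_zc.mp hx).1,
    conj_comm hh (mem_zc.mp hx).2⟩

theorem conj_mem_u1 {E : Subgroup G} {h x : G} (hh : h ∈ Subgroup.normalizer (E : Set G))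
    (hx : x ∈ u1 E) : h * x * h⁻¹ ∈ u1 E := by
  refine mem_u1.mpr ⟨conj_mem_zc hh hx.1, ?_⟩
  calc h * x * h⁻¹ * (h * x * h⁻¹) = h * (x * x) * h⁻¹ := by group
    _ = 1 := by rw [hx.2]; group

/-- In a group with a self-normalizing elementary abelian Sylow 2-subgroup `S` of order at least
four, some nontrivial element of `S` commutes with an element outside `S`. -/
theorem exists_commute_notMem {X : Type*} [Group X] [Finite X] (S : Sylow 2 X)
    (h2 : ∀ x ∈ (S : Subgroup X), x * x = 1)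
    (hN : Subgroup.normalizer ((S : Subgroup X) : Set X) ≤ S) (hne : (S : Subgroup X) ≠ ⊤)
    {a b : X} (ha : a ∈ (S : Subgroup X)) (hb : b ∈ (S : Subgroup X)) (ha1 : a ≠ 1) (hb1 : b ≠ 1)
    (hab : a ≠ b) : ∃ s ∈ (S : Subgroup X), s ≠ 1 ∧ ∃ h, h ∉ (S : Subgroup X) ∧ h * s = s * h := by
  by_contra hcon
  push Not at hcon
  have hinv : ∀ x ∈ (S : Subgroup X), x⁻¹ = x := fun x hx => inv_eq_of_mul_eq_one_right (h2 x hx)
  have hcomm : ∀ x ∈ (S : Subgroup X), ∀ y ∈ (S : Subgroup X), x * y = y * x := fun x hx y hy => by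
    rw [← hinv _ (mul_mem hx hy), mul_inv_rev, hinv x hx, hinv y hy]
  have hC : ∀ s ∈ (S : Subgroup X), s ≠ 1 → ∀ h, h * s = s * h → h ∈ (S : Subgroup X) :=
    fun s hs hs1 h hh => by_contra fun hn => hcon s hs hs1 h hn hh
  have hmal : ∀ s ∈ (S : Subgroup X), s ≠ 1 → ∀ g, g * s * g⁻¹ ∈ (S : Subgroup X) →
      g ∈ (S : Subgroup X) := by
    intro s hs hs1 g hg
    refine hN (mem_normalizer_of_conj fun x hx => hC _ hg ?_ _ ?_)
    · intro e; exact hs1 (conj_eq_one_iff.mp e)
    · calc g * x * g⁻¹ * (g * s * g⁻¹) = g * (x * s) * g⁻¹ := by group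
        _ = g * (s * x) * g⁻¹ := by rw [hcomm x hx s hs]
        _ = g * s * g⁻¹ * (g * x * g⁻¹) := by group
  obtain ⟨g, -, hg⟩ := SetLike.exists_of_lt (lt_top_iff_ne_top.mpr hne)
  set c := g * a * g⁻¹ with hc
  have hc2 : c * c = 1 := by
    calc c * c = g * (a * a) * g⁻¹ := by rw [hc]; group
      _ = 1 := by rw [h2 a ha]; group
  set d := b * c with hd
  have hbd : b * d * b = d⁻¹ := by
    rw [hd, mul_inv_rev, hinv b hb, inv_eq_of_mul_eq_one_right hc2, ← mul_assoc, h2 b hb, one_mul]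
  have hdj : ∀ j : ℕ, b * d ^ j * b = (d ^ j)⁻¹ := by
    intro j
    have : (b * d * b) ^ j = b * d ^ j * b := by
      conv_lhs => rw [show b * d * b = b * d * b⁻¹ by rw [hinv b hb]]
      rw [conj_pow, hinv b hb]
    rw [← this, hbd, inv_pow]
  rcases Nat.even_or_odd (orderOf d) with ⟨m, hm⟩ | ⟨k, hk⟩
  · set z := d ^ m with hz
    have hz2 : z * z = 1 := by rw [hz, ← pow_add, ← hm, pow_orderOf_eq_one]
    have hz1 : z ≠ 1 := by
      intro e
      have h0 := orderOf_pos d
      have := Nat.le_of_dvd (by omega) (orderOf_dvd_of_pow_eq_one e)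
      omega
    have hzb : z * b = b * z := by
      have h := hdj m
      rw [← hz, inv_eq_of_mul_eq_one_right hz2] at h
      calc z * b = (b * z * b) * b := by rw [h]
        _ = b * z * (b * b) := by group
        _ = b * z := by rw [h2 b hb, mul_one]
    have hzS : z ∈ (S : Subgroup X) := hC b hb hb1 z hzb
    have hcd : c = b * d := by rw [hd, ← mul_assoc, h2 b hb, one_mul]
    have hzd : z * d = d * z := by rw [hz, ← pow_succ, ← pow_succ']
    have hzc : z * c = c * z := by
      calc z * c = z * (b * d) := by rw [← hcd]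
        _ = (z * b) * d := by group
        _ = b * (z * d) := by rw [hzb]; group
        _ = (b * d) * z := by rw [hzd]; group
        _ = c * z := by rw [← hcd]
    have hzg : g⁻¹ * z * g ∈ (S : Subgroup X) := by
      refine hC a ha ha1 _ ?_
      calc g⁻¹ * z * g * a = g⁻¹ * (z * c) * g := by rw [hc]; group
        _ = g⁻¹ * (c * z) * g := by rw [hzc]
        _ = a * (g⁻¹ * z * g) := by rw [hc]; group
    refine hg (hmal _ hzg (fun e => hz1 ?_) g (by simpa [mul_assoc] using hzS))
    calc z = g * (g⁻¹ * z * g) * g⁻¹ := by group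
      _ = 1 := by rw [e]; group
  · have hconj : d ^ k * b * (d ^ k)⁻¹ = c := by
      have h1 : b * (d ^ k)⁻¹ = d ^ k * b := by
        rw [← hdj k, ← mul_assoc, ← mul_assoc, h2 b hb, one_mul]
      have h3 : d ^ k * d ^ k = d⁻¹ := eq_inv_of_mul_eq_one_left (by
        rw [← pow_add, ← pow_succ, show k + k + 1 = orderOf d by omega, pow_orderOf_eq_one])
      calc d ^ k * b * (d ^ k)⁻¹ = d ^ k * (b * (d ^ k)⁻¹) := by group
        _ = d ^ k * d ^ k * b := by rw [h1]; group
        _ = d⁻¹ * b := by rw [h3]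
        _ = c := by
          rw [hd, mul_inv_rev, hinv b hb, inv_eq_of_mul_eq_one_right hc2, mul_assoc, h2 b hb,
            mul_one]
    set w := g⁻¹ * d ^ k with hw
    have hwb : w * b * w⁻¹ = a := by
      calc w * b * w⁻¹ = g⁻¹ * (d ^ k * b * (d ^ k)⁻¹) * g := by rw [hw]; group
        _ = g⁻¹ * c * g := by rw [hconj]
        _ = a := by rw [hc]; group
    have hwS : w ∈ (S : Subgroup X) := hmal b hb hb1 w (hwb ▸ ha)
    apply hab
    rw [← hwb, hcomm w hwS b hb, mul_assoc, mul_inv_cancel, mul_one]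

/-- The trace of a Sylow subgroup on a normal subgroup is a Sylow subgroup of it. -/
theorem exists_sylow_inf {X : Type*} [Group X] [Finite X] {p : ℕ} [Fact p.Prime] (D : Sylow p X) (K : Subgroup X) [hK : K.Normal] :
    ∃ SK : Sylow p K, (SK : Subgroup K) = (D : Subgroup X).subgroupOf K := by
  have hp : IsPGroup p ((D : Subgroup X).subgroupOf K) := D.isPGroup'.comap_subtype
  obtain ⟨SK, hSK⟩ := hp.exists_le_sylow
  refine ⟨SK, (Subgroup.eq_of_le_of_card_ge hSK ?_).symm⟩
  obtain ⟨Q, hQ⟩ := (SK.isPGroup'.map K.subtype).exists_le_sylow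
  obtain ⟨c, hc⟩ := MulAction.exists_smul_eq X Q D
  refine Nat.card_le_card_of_injective
    (fun s : (SK : Subgroup K) => (⟨⟨c * ((s : K) : X) * c⁻¹, hK.conj_mem _ (s : K).2 c⟩, ?_⟩ :
      (D : Subgroup X).subgroupOf K)) fun a b e => ?_
  · rw [Subgroup.mem_subgroupOf, ← hc, Sylow.coe_subgroup_smul,
      Subgroup.mem_pointwise_smul_iff_inv_smul_mem]
    simpa [mul_assoc] using hQ ⟨s, s.2, rfl⟩
  · have h : c * ((a : K) : X) * c⁻¹ = c * ((b : K) : X) * c⁻¹ :=
      congrArg (fun z : (D : Subgroup X).subgroupOf K => ((z : K) : X)) e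
    exact Subtype.ext (Subtype.ext (mul_left_cancel (mul_right_cancel h)))

variable [Finite G] {P : Sylow 2 G} {M : Subgroup G}

/-- The data of the prime two. -/
structure Setup (P : Sylow 2 G) (M : Subgroup G) : Prop where
  le : (P : Subgroup G) ≤ M
  central : ∀ a ∈ (P : Subgroup G), ∀ b ∈ (P : Subgroup G), ∀ c ∈ (P : Subgroup G),
    ⁅a, b⁆ * c = c * ⁅a, b⁆
  split : ∀ m ∈ M, ∃ z ∈ (P : Subgroup G), ∃ r : G,
    (∀ a ∈ (P : Subgroup G), a * r = r * a) ∧ m = z * r
  two : ∀ x ∈ M, (∃ k : ℕ, x ^ 2 ^ k = 1) → x ∈ (P : Subgroup G)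
  normalizer : Subgroup.normalizer ((P : Subgroup G) : Set G) ≤ M
  centralizer : Subgroup.centralizer ((u1 (P : Subgroup G) : Subgroup G) : Set G) ≤ M

/-- `E` is a proper essential centralizer. -/
def Bad (P : Sylow 2 G) (M E : Subgroup G) : Prop :=
  ∃ U : Subgroup G, u1 (P : Subgroup G) ≤ U ∧ U ≤ (P : Subgroup G) ∧ (∀ x ∈ U, x * x = 1) ∧
    (∀ x ∈ U, ∀ y ∈ U, x * y = y * x) ∧ E = (P : Subgroup G) ⊓ Subgroup.centralizer (U : Set G) ∧
    ¬ Subgroup.normalizer (E : Set G) ≤ M

theorem Setup.comm_mem_zc (S : Setup P M) {a b : G} (ha : a ∈ (P : Subgroup G))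
    (hb : b ∈ (P : Subgroup G)) : ⁅a, b⁆ ∈ zc (P : Subgroup G) := by
  refine mem_zc.mpr ⟨?_, fun e he => (S.central a ha b hb e he).symm⟩
  rw [commutatorElement_def]
  exact mul_mem (mul_mem (mul_mem ha hb) (inv_mem ha)) (inv_mem hb)

theorem Setup.conj_mem (S : Setup P M) {U : Subgroup G} (hU : u1 (P : Subgroup G) ≤ U) {h n : G}
    (hh : ∀ x ∈ U, h⁻¹ * x * h ∈ U) (hn : n ∈ (P : Subgroup G))
    (hnU : n ∈ Subgroup.centralizer (U : Set G)) :
    h * n * h⁻¹ ∈ (P : Subgroup G) ⊓ Subgroup.centralizer (U : Set G) := by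
  have hc : h * n * h⁻¹ ∈ Subgroup.centralizer (U : Set G) := by
    rw [Subgroup.mem_centralizer_iff]
    intro x hx
    calc x * (h * n * h⁻¹) = h * ((h⁻¹ * x * h) * n) * h⁻¹ := by group
      _ = h * (n * (h⁻¹ * x * h)) * h⁻¹ := by rw [Subgroup.mem_centralizer_iff.mp hnU _ (hh x hx)]
      _ = h * n * h⁻¹ * x := by group
  refine ⟨S.two _ (S.centralizer (Subgroup.centralizer_le hU hc)) ?_, hc⟩
  obtain ⟨k, hk⟩ := P.2 ⟨n, hn⟩
  refine ⟨k, ?_⟩
  rw [conj_pow]
  have : n ^ 2 ^ k = 1 := by simpa using congrArg Subtype.val hk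
  rw [this]; group

namespace Bad

variable {E : Subgroup G}

theorem le_P (h : Bad P M E) : E ≤ (P : Subgroup G) := by
  obtain ⟨U, -, -, -, -, rfl, -⟩ := h
  exact inf_le_left

theorem zc_P_le (h : Bad P M E) : zc (P : Subgroup G) ≤ E := by
  obtain ⟨U, -, hUP, -, -, rfl, -⟩ := h
  intro x hx
  exact ⟨(mem_zc.mp hx).1, Subgroup.mem_centralizer_iff.mpr fun u hu => (mem_zc.mp hx).2 u (hUP hu)⟩

theorem zc_P_le_zc (h : Bad P M E) : zc (P : Subgroup G) ≤ zc E := fun x hx =>
  mem_zc.mpr ⟨h.zc_P_le hx, fun e he => (mem_zc.mp hx).2 e (h.le_P he)⟩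

theorem u1_P_le (h : Bad P M E) : u1 (P : Subgroup G) ≤ u1 E := fun _ hx =>
  mem_u1.mpr ⟨h.zc_P_le_zc hx.1, hx.2⟩

theorem eq_inf (h : Bad P M E) :
    E = (P : Subgroup G) ⊓ Subgroup.centralizer ((u1 E : Subgroup G) : Set G) := by
  refine le_antisymm (fun x hx => ⟨h.le_P hx, Subgroup.mem_centralizer_iff.mpr fun u hu =>
    ((mem_zc.mp hu.1).2 x hx).symm⟩) ?_
  obtain ⟨U, -, hUP, hU2, hUc, rfl, -⟩ := h
  rintro x ⟨hxP, hx⟩
  refine ⟨hxP, Subgroup.mem_centralizer_iff.mpr fun u hu => Subgroup.mem_centralizer_iff.mp hx u ?_⟩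
  refine mem_u1.mpr ⟨mem_zc.mpr ⟨⟨hUP hu, Subgroup.mem_centralizer_iff.mpr fun v hv => hUc v hv u hu⟩,
    fun e he => ?_⟩, hU2 u hu⟩
  exact (Subgroup.mem_centralizer_iff.mp he.2 u hu).symm

theorem not_le (h : Bad P M E) : ¬ Subgroup.normalizer (E : Set G) ≤ M := by
  obtain ⟨U, -, -, -, -, -, h⟩ := h
  exact h

theorem mem_of_commute (h : Bad P M E) {x : G} (hx : x ∈ (P : Subgroup G))
    (hc : ∀ u ∈ u1 E, u * x = x * u) : x ∈ E := by
  rw [h.eq_inf]
  exact ⟨hx, Subgroup.mem_centralizer_iff.mpr hc⟩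

theorem M_le_normalizer (S : Setup P M) (h : Bad P M E) : M ≤ Subgroup.normalizer (E : Set G) := by
  intro m hm
  refine mem_normalizer_of_conj fun n hn => ?_
  obtain ⟨z, hz, r, hr, rfl⟩ := S.split m hm
  have h1 : z * r * n * (z * r)⁻¹ = ⁅z, n⁆ * n := by
    calc z * r * n * (z * r)⁻¹ = z * (r * n) * r⁻¹ * z⁻¹ := by group
      _ = z * (n * r) * r⁻¹ * z⁻¹ := by rw [hr n (h.le_P hn)]
      _ = ⁅z, n⁆ * n := by rw [commutatorElement_def]; group
  rw [h1]
  exact mul_mem (h.zc_P_le (S.comm_mem_zc hz (h.le_P hn))) hn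

theorem sq_mem (S : Setup P M) (h : Bad P M E) {t : G} (ht : t ∈ (P : Subgroup G)) : t * t ∈ E := by
  refine h.mem_of_commute (mul_mem ht ht) fun u hu => ?_
  have huP : u ∈ (P : Subgroup G) := h.le_P (mem_zc.mp hu.1).1
  set c := ⁅t, u⁆ with hc
  have hcu : c * u = u * c := S.central t ht u huP u huP
  have hct : c * t = t * c := S.central t ht u huP t ht
  have h1 : t * u * t⁻¹ = c * u := by rw [hc, commutatorElement_def]; group
  have hc2 : c * c = 1 := by
    have h2 : (c * u) * (c * u) = 1 := by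
      rw [← h1]
      calc t * u * t⁻¹ * (t * u * t⁻¹) = t * (u * u) * t⁻¹ := by group
        _ = 1 := by rw [hu.2]; group
    calc c * c = c * c * (u * u) := by rw [hu.2, mul_one]
      _ = c * (c * u) * u := by group
      _ = c * (u * c) * u := by rw [hcu]
      _ = (c * u) * (c * u) := by group
      _ = 1 := h2
  calc u * (t * t) = t * t * ((t * t)⁻¹ * u * (t * t)) := by group
    _ = t * t * u := by
      congr 1
      have h3 : t * t * u * (t * t)⁻¹ = u := by
        calc t * t * u * (t * t)⁻¹ = t * (t * u * t⁻¹) * t⁻¹ := by group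
          _ = t * (c * u) * t⁻¹ := by rw [h1]
          _ = (t * c) * u * t⁻¹ := by group
          _ = (c * t) * u * t⁻¹ := by rw [hct]
          _ = c * (t * u * t⁻¹) := by group
          _ = c * c * u := by rw [h1, mul_assoc]
          _ = u := by rw [hc2, one_mul]
      calc (t * t)⁻¹ * u * (t * t) = (t * t)⁻¹ * (t * t * u * (t * t)⁻¹) * (t * t) := by rw [h3]
        _ = u := by group

/-- An action lemma: what `P` does on `X` modulo `W`, all of `N(E)` does. -/
theorem act (S : Setup P M) (h : Bad P M E) (X W : Subgroup G) (hXP : X ≤ (P : Subgroup G))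
    (hX : ∀ g ∈ Subgroup.normalizer (E : Set G), ∀ x ∈ X, g * x * g⁻¹ ∈ X)
    (hW : ∀ g ∈ Subgroup.normalizer (E : Set G), ∀ w ∈ W, g * w * g⁻¹ ∈ W)
    (hP : ∀ p ∈ (P : Subgroup G), ∀ x ∈ X, ⁅p, x⁆ ∈ W) :
    ∀ g ∈ Subgroup.normalizer (E : Set G), ∀ x ∈ X, ⁅g, x⁆ ∈ W := by
  set H := Subgroup.normalizer (E : Set G) with hH
  let K : Subgroup H :=
    { carrier := {g | ∀ x ∈ X, ⁅(g : G), x⁆ ∈ W}
      one_mem' := fun x _ => by simp
      mul_mem' := by
        intro a b ha hb x hx
        have : ⁅(a : G) * b, x⁆ = (a : G) * ⁅(b : G), x⁆ * (a : G)⁻¹ * ⁅(a : G), x⁆ := by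
          simp only [commutatorElement_def]; group
        rw [Subgroup.coe_mul, this]
        exact mul_mem (hW _ a.2 _ (hb x hx)) (ha x hx)
      inv_mem' := by
        intro a ha x hx
        have h1 := ha _ (hX _ (inv_mem a.2) x hx)
        have : ⁅((a⁻¹ : H) : G), x⁆ = ⁅(a : G), (a : G)⁻¹ * x * (a : G)⁻¹⁻¹⁆⁻¹ := by
          simp only [commutatorElement_def, Subgroup.coe_inv]; group
        rw [this]
        exact inv_mem h1 }
  haveI : K.Normal := by
    constructor
    intro a ha g x hx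
    have : ⁅(g : G) * a * (g : G)⁻¹, x⁆ =
        (g : G) * ⁅(a : G), (g : G)⁻¹ * x * (g : G)⁻¹⁻¹⁆ * (g : G)⁻¹ := by
      simp only [commutatorElement_def]; group
    rw [Subgroup.coe_mul, Subgroup.coe_mul, Subgroup.coe_inv, this]
    exact hW _ g.2 _ (ha _ (hX _ (inv_mem g.2) x hx))
  have hPH : (P : Subgroup G) ≤ H := S.le.trans (h.M_le_normalizer S)
  have hM : ∀ g : H, (g : G) ∈ M → g ∈ K := by
    intro g hg x hx
    obtain ⟨z, hz, r, hr, hg'⟩ := S.split _ hg
    have : ⁅(g : G), x⁆ = ⁅z, x⁆ := by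
      rw [hg', commutatorElement_def, commutatorElement_def]
      calc z * r * x * (z * r)⁻¹ * x⁻¹ = z * (r * x) * r⁻¹ * z⁻¹ * x⁻¹ := by group
        _ = z * (x * r) * r⁻¹ * z⁻¹ * x⁻¹ := by rw [hr x (hXP hx)]
        _ = z * x * z⁻¹ * x⁻¹ := by group
    rw [this]
    exact hP z hz x hx
  have hK : ((P.subtype hPH : Sylow 2 H) : Subgroup H) ≤ K := fun g hg => hM g (S.le hg)
  intro g hg
  have htop := Sylow.normalizer_sup_eq_top' (P.subtype hPH) hK
  have : (⟨g, hg⟩ : H) ∈ Subgroup.normalizer (((P.subtype hPH : Sylow 2 H) : Subgroup H) : Set H) ⊔ K :=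
    htop.ge (Subgroup.mem_top _)
  obtain ⟨n, hn, k, hk, hnk⟩ := Subgroup.mem_sup_of_normal_right.mp this
  have hnK : n ∈ K := by
    refine hM n (S.normalizer (mem_normalizer_of_conj fun x hx => ?_))
    exact (Subgroup.mem_normalizer_iff.mp hn ⟨x, hPH hx⟩).mp hx
  exact (hnk ▸ mul_mem hnK hk : (⟨g, hg⟩ : H) ∈ K)

theorem comm_zc (S : Setup P M) (h : Bad P M E) :
    ∀ g ∈ Subgroup.normalizer (E : Set G), ∀ e ∈ E, ⁅g, e⁆ ∈ zc E :=
  h.act S E (zc E) h.le_P (fun _ hg x hx => (Subgroup.mem_normalizer_iff.mp hg x).mp hx)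
    (fun _ hg _ hw => conj_mem_zc hg hw)
    (fun _ hp x hx => h.zc_P_le_zc (S.comm_mem_zc hp (h.le_P hx)))

/-- The normalizer of `E` normalizes everything between the centre of `E` and `E`. -/
theorem le_normalizer_of_between (S : Setup P M) (h : Bad P M E) {V : Subgroup G} (h1 : zc E ≤ V)
    (h2 : V ≤ E) : Subgroup.normalizer (E : Set G) ≤ Subgroup.normalizer (V : Set G) := fun g hg =>
  mem_normalizer_of_conj fun x hx => by
    have : g * x * g⁻¹ = ⁅g, x⁆ * x := by rw [commutatorElement_def]; group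
    rw [this]
    exact mul_mem (h1 (h.comm_zc S g hg x (h2 hx))) hx

/-- A maximal bad subgroup has index two in `P`. -/
theorem mul_mem_of_notMem (S : Setup P M) (h : Bad P M E)
    (hmax : ∀ E', Bad P M E' → E ≤ E' → E' = E) {a b : G} (ha : a ∈ (P : Subgroup G))
    (hb : b ∈ (P : Subgroup G)) (haE : a ∉ E) (hbE : b ∉ E) : a * b ∈ E := by
  by_contra habE
  set H := Subgroup.normalizer (E : Set G) with hH
  have hPH : (P : Subgroup G) ≤ H := S.le.trans (h.M_le_normalizer S)
  let C : Subgroup H := (Subgroup.centralizer ((u1 E : Subgroup G) : Set G)).subgroupOf H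
  haveI : C.Normal := by
    constructor
    intro c hc g
    rw [Subgroup.mem_subgroupOf, Subgroup.mem_centralizer_iff] at hc ⊢
    intro u hu
    have h1 : (g : G)⁻¹ * u * (g : G)⁻¹⁻¹ ∈ u1 E := conj_mem_u1 (inv_mem g.2) hu
    rw [inv_inv] at h1
    simp only [Subgroup.coe_mul, Subgroup.coe_inv]
    calc u * ((g : G) * c * (g : G)⁻¹) = (g : G) * (((g : G)⁻¹ * u * g) * c) * (g : G)⁻¹ := by group
      _ = (g : G) * ((c : G) * ((g : G)⁻¹ * u * g)) * (g : G)⁻¹ := by rw [hc _ h1]
      _ = _ := by group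
  have hCM : ∀ c : H, c ∈ C → (c : G) ∈ M := fun c hc =>
    S.centralizer (Subgroup.centralizer_le h.u1_P_le hc)
  have hCE : ∀ c : H, c ∈ C → (c : G) ∈ (P : Subgroup G) → (c : G) ∈ E := fun c hc hcP => by
    rw [h.eq_inf]; exact ⟨hcP, hc⟩
  let π := QuotientGroup.mk' C
  have hπ : Function.Surjective π := QuotientGroup.mk'_surjective C
  set T : Sylow 2 (H ⧸ C) := (P.subtype hPH).mapSurjective hπ with hT
  have hmemT : ∀ g : H, π g ∈ (T : Subgroup (H ⧸ C)) → (g : G) ∈ M := by
    intro g hg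
    rw [hT, Sylow.coe_mapSurjective] at hg
    obtain ⟨p, hp, he⟩ := hg
    have hc : p⁻¹ * g ∈ C := QuotientGroup.eq.mp he
    have : (g : G) = (p : G) * ((p⁻¹ * g : H) : G) := by simp
    rw [this]
    exact mul_mem (S.le hp) (hCM _ hc)
  have hMT : ∀ g : H, (g : G) ∈ M → π g ∈ (T : Subgroup (H ⧸ C)) := by
    intro g hg
    obtain ⟨z, hz, r, hr, he⟩ := S.split _ hg
    rw [hT, Sylow.coe_mapSurjective]
    refine ⟨⟨z, hPH hz⟩, hz, QuotientGroup.eq.mpr ?_⟩
    rw [Subgroup.mem_subgroupOf]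
    have : (((⟨z, hPH hz⟩ : H)⁻¹ * g : H) : G) = r := by simp [he]
    rw [this, Subgroup.mem_centralizer_iff]
    exact fun u hu => hr u (h.le_P (mem_zc.mp hu.1).1)
  have h2 : ∀ x ∈ (T : Subgroup (H ⧸ C)), x * x = 1 := by
    rw [hT, Sylow.coe_mapSurjective]
    rintro _ ⟨p, hp, rfl⟩
    rw [← map_mul]
    refine (QuotientGroup.eq_one_iff _).mpr (Subgroup.mem_subgroupOf.mpr ?_)
    have := h.sq_mem S (t := (p : G)) hp
    rw [h.eq_inf] at this
    exact this.2
  have hN : Subgroup.normalizer ((T : Subgroup (H ⧸ C)) : Set (H ⧸ C)) ≤ T := by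
    intro y hy
    obtain ⟨g, rfl⟩ := hπ y
    refine hMT g (S.normalizer (mem_normalizer_of_conj fun x hx => S.two _ ?_ ?_))
    · have hxT : π ⟨x, hPH hx⟩ ∈ (T : Subgroup (H ⧸ C)) := hMT _ (S.le hx)
      have := (Subgroup.mem_normalizer_iff.mp hy _).mp hxT
      rw [← map_inv, ← map_mul, ← map_mul] at this
      exact hmemT _ this
    · obtain ⟨k, hk⟩ := P.2 ⟨x, hx⟩
      refine ⟨k, ?_⟩
      rw [conj_pow]
      have : x ^ 2 ^ k = 1 := by simpa using congrArg Subtype.val hk
      rw [this]; group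
  have hne : (T : Subgroup (H ⧸ C)) ≠ ⊤ := by
    intro e
    exact h.not_le fun g hg => hmemT ⟨g, hg⟩ (by rw [e]; trivial)
  have hnot : ∀ (x : G) (hx : x ∈ (P : Subgroup G)), x ∉ E → π ⟨x, hPH hx⟩ ≠ 1 := fun x hx hxE e =>
    hxE (hCE _ ((QuotientGroup.eq_one_iff _).mp e) hx)
  have hab' : π ⟨a, hPH ha⟩ ≠ π ⟨b, hPH hb⟩ := by
    intro e
    have hc := hCE _ (QuotientGroup.eq.mp e) (mul_mem (inv_mem ha) hb)
    apply habE
    have : a * b = a * a * (a⁻¹ * b) := by group
    rw [this]
    exact mul_mem (h.sq_mem S ha) hc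
  obtain ⟨s, hs, hs1, g, hg, hgs⟩ := exists_commute_notMem T h2 hN hne
    (hMT ⟨a, hPH ha⟩ (S.le ha)) (hMT ⟨b, hPH hb⟩ (S.le hb)) (hnot a ha haE) (hnot b hb hbE) hab'
  obtain ⟨g, rfl⟩ := hπ g
  rw [hT, Sylow.coe_mapSurjective] at hs
  obtain ⟨p, hp, rfl⟩ := hs
  have hpP : (p : G) ∈ (P : Subgroup G) := hp
  have hgM : (g : G) ∉ M := fun hgm => hg (hMT g hgm)
  have hcc : (g * p)⁻¹ * (p * g) ∈ C := QuotientGroup.eq.mp hgs
  rw [Subgroup.mem_subgroupOf, Subgroup.mem_centralizer_iff] at hcc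
  let U' : Subgroup G := u1 E ⊓ Subgroup.centralizer ({(p : G)} : Set G)
  have hU' : u1 (P : Subgroup G) ≤ U' := fun x hx =>
    ⟨h.u1_P_le hx, Subgroup.mem_centralizer_singleton_iff.mpr ((mem_zc.mp hx.1).2 _ hpP).symm⟩
  have hgU : (g : G) ∈ Subgroup.normalizer (U' : Set G) := by
    refine mem_normalizer_of_conj fun x hx => ⟨conj_mem_u1 g.2 hx.1,
      Subgroup.mem_centralizer_singleton_iff.mpr ?_⟩
    have hxp : x * p = p * x := Subgroup.mem_centralizer_singleton_iff.mp hx.2
    have h1 := hcc x hx.1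
    simp only [Subgroup.coe_mul, Subgroup.coe_inv] at h1
    calc (g : G) * x * (g : G)⁻¹ * p
        = (g : G) * p * (((p : G)⁻¹ * x * p)) * (((g : G) * p)⁻¹ * (p * g)) * (g : G)⁻¹ := by group
      _ = (g : G) * p * (x * (((g : G) * p)⁻¹ * (p * g))) * (g : G)⁻¹ := by
          rw [show (p : G)⁻¹ * x * p = x by rw [mul_assoc, hxp, inv_mul_cancel_left]]; group
      _ = (g : G) * p * ((((g : G) * p)⁻¹ * (p * g)) * x) * (g : G)⁻¹ := by rw [h1]
      _ = (p : G) * ((g : G) * x * (g : G)⁻¹) := by group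
  set E' := (P : Subgroup G) ⊓ Subgroup.centralizer (U' : Set G) with hE'
  have hgE : (g : G) ∈ Subgroup.normalizer (E' : Set G) := by
    refine mem_normalizer_of_conj fun n hn => S.conj_mem hU' (fun x hx => ?_) hn.1 hn.2
    have := (Subgroup.mem_normalizer_iff.mp (inv_mem hgU) x).mp hx
    simpa using this
  have hbad : Bad P M E' := ⟨U', hU', fun x hx => h.le_P (mem_zc.mp hx.1.1).1, fun x hx => hx.1.2,
    fun x hx y hy => zc_comm hx.1.1 hy.1.1, rfl, fun hle => hgM (hle hgE)⟩
  have hEE' : E ≤ E' := fun x hx => ⟨h.le_P hx,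
    Subgroup.mem_centralizer_iff.mpr fun u hu => ((mem_zc.mp hu.1.1).2 x hx).symm⟩
  have hpE : (p : G) ∈ E' := ⟨hpP, Subgroup.mem_centralizer_iff.mpr fun u hu =>
    Subgroup.mem_centralizer_singleton_iff.mp hu.2⟩
  rw [hmax E' hbad hEE', h.eq_inf] at hpE
  exact hs1 ((QuotientGroup.eq_one_iff p).mpr (Subgroup.mem_subgroupOf.mpr hpE.2))

end Bad

/-- Two bad subgroups are linked when their elementary centres do not commute. -/
def Link (E F : Subgroup G) : Prop := ∃ s ∈ u1 E, ∃ t ∈ u1 F, s * t ≠ t * s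

theorem Link.symm {E F : Subgroup G} (h : Link E F) : Link F E := by
  obtain ⟨s, hs, t, ht, hne⟩ := h
  exact ⟨t, ht, s, hs, fun e => hne e.symm⟩

theorem zc_le_of_not_link {E F : Subgroup G} (hE : Bad P M E) (hF : Bad P M F) (h : ¬ Link E F) :
    zc F ≤ E := by
  intro t ht
  refine hE.mem_of_commute (hF.le_P (mem_zc.mp ht).1) fun s hs => ?_
  by_contra hne
  have hsF : s ∉ F := fun hsF => hne ((mem_zc.mp ht).2 s hsF)
  refine hsF (hF.mem_of_commute (hE.le_P (mem_zc.mp hs.1).1) fun t' ht' => ?_)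
  by_contra hne'
  exact h ⟨s, hs, t', ht', fun e => hne' e.symm⟩

/-- A maximal bad subgroup is linked with at most one maximal bad subgroup. -/
theorem link_unique (S : Setup P M) {E F L : Subgroup G} (hE : Bad P M E) (hF : Bad P M F)
    (hL : Bad P M L) (mE : ∀ E', Bad P M E' → E ≤ E' → E' = E)
    (mF : ∀ E', Bad P M E' → F ≤ E' → E' = F) (mL : ∀ E', Bad P M E' → L ≤ E' → E' = L)
    (h₁ : Link E F) (h₂ : Link E L) : L = F := by
  obtain ⟨s, hs, t, ht, hst⟩ := h₁
  obtain ⟨s', hs', r, hr, hsr'⟩ := h₂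
  have hsP : s ∈ (P : Subgroup G) := hE.le_P (mem_zc.mp hs.1).1
  have htP : t ∈ (P : Subgroup G) := hF.le_P (mem_zc.mp ht.1).1
  have hrP : r ∈ (P : Subgroup G) := hL.le_P (mem_zc.mp hr.1).1
  have hs2 : s⁻¹ = s := inv_eq_of_mul_eq_one_right hs.2
  have htE : t ∉ E := fun h => hst ((mem_zc.mp hs.1).2 t h).symm
  have hsF : s ∉ F := fun h => hst ((mem_zc.mp ht.1).2 s h)
  set z := ⁅s, t⁆ with hz
  have hz1 : z ≠ 1 := fun e => hst (commutatorElement_eq_one_iff_mul_comm.mp e)
  have hzP : z ∈ zc (P : Subgroup G) := S.comm_mem_zc hsP htP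
  have hzc : ∀ x ∈ (P : Subgroup G), z * x = x * z := S.central s hsP t htP
  -- everything in `P` centralizing `E` and `t` is central in `P`
  have hcen : ∀ x ∈ (P : Subgroup G), (∀ e ∈ E, e * x = x * e) → x * t = t * x →
      x ∈ zc (P : Subgroup G) := by
    intro x hx hxE hxt
    refine mem_zc.mpr ⟨hx, fun e he => ?_⟩
    by_cases heE : e ∈ E
    · exact hxE e heE
    · have h1 := hxE _ (hE.mul_mem_of_notMem S mE htP he htE heE)
      apply mul_left_cancel (a := t)
      calc t * (e * x) = (t * e) * x := by group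
        _ = x * (t * e) := h1
        _ = (x * t) * e := by group
        _ = (t * x) * e := by rw [hxt]
        _ = t * (x * e) := by group
  -- split of the elements of `E`
  have hsplit : ∀ e ∈ E, e ∈ F ∨ s * e ∈ F := fun e he => by
    by_cases heF : e ∈ F
    · exact Or.inl heF
    · exact Or.inr (hF.mul_mem_of_notMem S mF hsP (hE.le_P he) hsF heF)
  have hse : ∀ e ∈ E, s * e = e * s := fun e he => ((mem_zc.mp hs.1).2 e he).symm
  -- squares of central elements of `E` are central in `P`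
  have hsq : ∀ u ∈ zc E, u * u ∈ zc (P : Subgroup G) := by
    intro u hu
    have huE := (mem_zc.mp hu).1
    refine hcen _ (mul_mem (hE.le_P huE) (hE.le_P huE)) (fun e he => ?_) ?_
    · rw [← mul_assoc, (mem_zc.mp hu).2 e he, mul_assoc, (mem_zc.mp hu).2 e he, mul_assoc]
    · rcases hsplit u huE with h | h
      · have := (mem_zc.mp ht.1).2 u h
        rw [mul_assoc, this, ← mul_assoc, this, mul_assoc]
      · have h1 : u * u = (s * u) * (s * u) := by
          calc u * u = s * s * (u * u) := by rw [hs.2, one_mul]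
            _ = s * (s * u) * u := by group
            _ = s * (u * s) * u := by rw [hse u huE]
            _ = (s * u) * (s * u) := by group
        have := (mem_zc.mp ht.1).2 (s * u) h
        rw [h1, mul_assoc, this, ← mul_assoc, this, mul_assoc]
  -- `z` is moved by the normalizer of `E`
  have hzmove : ∃ g ∈ Subgroup.normalizer (E : Set G), g * z * g⁻¹ ≠ z := by
    by_contra hcon
    push Not at hcon
    have hact : ∀ g ∈ Subgroup.normalizer (E : Set G), ∀ u ∈ u1 E, ⁅g, u⁆ ∈ Subgroup.zpowers z := by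
      refine hE.act S (u1 E) (Subgroup.zpowers z) (fun u hu => hE.le_P (mem_zc.mp hu.1).1)
        (fun g hg x hx => conj_mem_u1 hg hx) (fun g hg w hw => ?_) ?_
      · obtain ⟨i, rfl⟩ := Subgroup.mem_zpowers_iff.mp hw
        rw [← conj_zpow, hcon g hg]
        exact ⟨i, rfl⟩
      · intro p hp u hu
        by_cases hpE : p ∈ E
        · rw [commutatorElement_eq_one_iff_mul_comm.mpr ((mem_zc.mp hu.1).2 p hpE)]
          exact one_mem _
        have hte := hE.mul_mem_of_notMem S mE htP hp htE hpE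
        have h1 : ⁅p, u⁆ = ⁅t, u⁆ := by
          have h2 : ⁅t * (t * p), u⁆ = ⁅t, u⁆ := by
            simp only [commutatorElement_def]
            calc t * (t * p) * u * (t * (t * p))⁻¹ * u⁻¹
                = t * ((t * p) * u) * (t * p)⁻¹ * t⁻¹ * u⁻¹ := by group
              _ = t * (u * (t * p)) * (t * p)⁻¹ * t⁻¹ * u⁻¹ := by rw [(mem_zc.mp hu.1).2 _ hte]
              _ = t * u * t⁻¹ * u⁻¹ := by group
          rwa [← mul_assoc, ht.2, one_mul] at h2
        rw [h1]
        rcases hsplit u (mem_zc.mp hu.1).1 with h | h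
        · rw [commutatorElement_eq_one_iff_mul_comm.mpr ((mem_zc.mp ht.1).2 u h).symm]
          exact one_mem _
        · have h3 : ⁅t, u⁆ = z⁻¹ := by
            have hu' : u = s * (s * u) := by rw [← mul_assoc, hs.2, one_mul]
            rw [hz, commutatorElement_inv]
            simp only [commutatorElement_def]
            conv_lhs => rw [hu']
            calc t * (s * (s * u)) * t⁻¹ * (s * (s * u))⁻¹
                = t * s * ((s * u) * t⁻¹) * (s * u)⁻¹ * s⁻¹ := by group
              _ = t * s * (t⁻¹ * (s * u)) * (s * u)⁻¹ * s⁻¹ := by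
                  rw [inv_eq_of_mul_eq_one_right ht.2, (mem_zc.mp ht.1).2 _ h]
              _ = t * s * t⁻¹ * s⁻¹ := by group
          rw [h3]
          exact inv_mem (Subgroup.mem_zpowers z)
    have hz2 : z * z = 1 := by
      have h1 : t * s * t⁻¹ = z⁻¹ * s := by rw [hz, commutatorElement_inv, commutatorElement_def]; group
      have h2 : (z⁻¹ * s) * (z⁻¹ * s) = 1 := by
        rw [← h1]
        calc t * s * t⁻¹ * (t * s * t⁻¹) = t * (s * s) * t⁻¹ := by group
          _ = 1 := by rw [hs.2]; group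
      have h3 : z⁻¹ * s = s * z⁻¹ := ((Commute.inv_left (show Commute z s from hzc s hsP))).eq
      have : z⁻¹ * z⁻¹ = 1 := by
        calc z⁻¹ * z⁻¹ = z⁻¹ * z⁻¹ * (s * s) := by rw [hs.2, mul_one]
          _ = z⁻¹ * (z⁻¹ * s) * s := by group
          _ = z⁻¹ * (s * z⁻¹) * s := by rw [h3]
          _ = 1 := by rw [← h2]; group
      exact inv_eq_one.mp (by rw [mul_inv_rev]; exact this)
    -- squares centralize the elementary centre
    have hsqM : ∀ g ∈ Subgroup.normalizer (E : Set G), g * g ∈ M := by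
      intro g hg
      refine S.centralizer (Subgroup.centralizer_le hE.u1_P_le ?_)
      rw [Subgroup.mem_centralizer_iff]
      intro u hu
      have hcu := hact g hg u hu
      set c := ⁅g, u⁆ with hc
      have hc2 : c * c = 1 := by
        obtain ⟨i, hi⟩ := Subgroup.mem_zpowers_iff.mp hcu
        rw [← hi, ← (Commute.refl z).mul_zpow, hz2, one_zpow]
      have hgc : g * c * g⁻¹ = c := by
        obtain ⟨i, hi⟩ := Subgroup.mem_zpowers_iff.mp hcu
        rw [← hi, ← conj_zpow, hcon g hg]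
      have h1 : g * u * g⁻¹ = c * u := by rw [hc, commutatorElement_def]; group
      have : g * g * u * (g * g)⁻¹ = u := by
        calc g * g * u * (g * g)⁻¹ = g * (g * u * g⁻¹) * g⁻¹ := by group
          _ = (g * c * g⁻¹) * (g * u * g⁻¹) := by conv_lhs => rw [h1]
                                                  group
          _ = c * c * u := by rw [hgc, h1, mul_assoc]
          _ = u := by rw [hc2, one_mul]
      calc u * (g * g) = (g * g * u * (g * g)⁻¹) * (g * g) := by rw [this]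
        _ = g * g * u := by group
    refine hE.not_le fun g hg => ?_
    -- write `g` as an odd part times a two part
    have hpos : 0 < orderOf g := orderOf_pos g
    obtain ⟨k, m, hm, hgm⟩ := Nat.exists_eq_two_pow_mul_odd hpos.ne'
    set H := Subgroup.normalizer (E : Set G) with hH
    have hPH : (P : Subgroup G) ≤ H := S.le.trans (hE.M_le_normalizer S)
    let K : Subgroup H := M.subgroupOf H
    have hKtop : K = ⊤ := by
      by_contra hne
      obtain ⟨p, hp, hpK⟩ := Nat.exists_prime_and_dvd (mt Subgroup.index_eq_one.mp hne)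
      haveI := Fact.mk hp
      by_cases hp2 : p = 2
      · subst hp2
        refine (P.subtype hPH).not_dvd_index (hpK.trans (Subgroup.index_dvd_of_le ?_))
        intro x hx
        exact S.le hx
      · obtain ⟨Q⟩ : Nonempty (Sylow p H) := inferInstance
        refine Q.not_dvd_index (hpK.trans (Subgroup.index_dvd_of_le fun x hx => ?_))
        obtain ⟨j, hj⟩ := Q.2 ⟨x, hx⟩
        have hj' : (x : G) ^ p ^ j = 1 := by
          simpa using congrArg (fun y : (Q : Subgroup H) => ((y : H) : G)) hj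
        have hodd : (orderOf (x : G)).Coprime 2 :=
          Nat.Coprime.coprime_dvd_left (orderOf_dvd_of_pow_eq_one hj')
            (((Nat.coprime_primes hp Nat.prime_two).mpr hp2).pow_left j)
        obtain ⟨i, hi⟩ := exists_pow_eq_self_of_coprime (x := (x : G)) hodd.symm
        rw [Subgroup.mem_subgroupOf, ← hi]
        exact pow_mem (by rw [pow_two]; exact hsqM _ x.2) i
    exact (hKtop ▸ Subgroup.mem_top _ : (⟨g, hg⟩ : H) ∈ K)
  obtain ⟨g, hg, hgz⟩ := hzmove
  -- elements fixed by the normalizer of `E`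
  have hfix_sq : ∀ u ∈ zc E, g * (u * u) * g⁻¹ = u * u := by
    let X : Subgroup G :=
      { carrier := {w | ∃ u ∈ zc E, w = u * u}
        one_mem' := ⟨1, one_mem _, (one_mul 1).symm⟩
        mul_mem' := by
          rintro _ _ ⟨u, hu, rfl⟩ ⟨v, hv, rfl⟩
          refine ⟨u * v, mul_mem hu hv, ?_⟩
          calc u * u * (v * v) = u * (u * v) * v := by group
            _ = u * (v * u) * v := by rw [zc_comm hu hv]
            _ = u * v * (u * v) := by group
        inv_mem' := by
          rintro _ ⟨u, hu, rfl⟩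
          exact ⟨u⁻¹, inv_mem hu, mul_inv_rev u u⟩ }
    intro u hu
    have := hE.act S X ⊥ (fun w hw => by
        obtain ⟨v, hv, rfl⟩ := hw
        exact (mem_zc.mp (hsq v hv)).1)
      (fun k hk w hw => by
        obtain ⟨v, hv, rfl⟩ := hw
        exact ⟨k * v * k⁻¹, conj_mem_zc hk hv, by group⟩)
      (fun k _ w hw => by rw [Subgroup.mem_bot] at hw ⊢; rw [hw]; group)
      (fun p hp w hw => by
        obtain ⟨v, hv, rfl⟩ := hw
        rw [Subgroup.mem_bot, commutatorElement_eq_one_iff_mul_comm]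
        exact (mem_zc.mp (hsq v hv)).2 p hp)
      g hg (u * u) ⟨u, hu, rfl⟩
    rw [Subgroup.mem_bot, commutatorElement_eq_one_iff_mul_comm] at this
    rw [this, mul_inv_cancel_right]
  have hfix_comm : ∀ a ∈ E, ∀ b ∈ E, g * ⁅a, b⁆ * g⁻¹ = ⁅a, b⁆ := by
    intro a ha b hb
    have h1 : g * a * g⁻¹ = ⁅g, a⁆ * a := by rw [commutatorElement_def]; group
    have h2 : g * b * g⁻¹ = ⁅g, b⁆ * b := by rw [commutatorElement_def]; group
    have hA := hE.comm_zc S g hg a ha
    have hB := hE.comm_zc S g hg b hb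
    set u := ⁅g, a⁆
    set v := ⁅g, b⁆
    have hua : ∀ x ∈ E, Commute u x := fun x hx => ((mem_zc.mp hA).2 x hx).symm
    have hvb : ∀ x ∈ E, Commute v x := fun x hx => ((mem_zc.mp hB).2 x hx).symm
    have hvE : v ∈ E := (mem_zc.mp hB).1
    calc g * ⁅a, b⁆ * g⁻¹ = ⁅g * a * g⁻¹, g * b * g⁻¹⁆ := by simp only [commutatorElement_def]; group
      _ = ⁅u * a, v * b⁆ := by rw [h1, h2]
      _ = ⁅a, b⁆ := by
        simp only [commutatorElement_def]
        calc u * a * (v * b) * (u * a)⁻¹ * (v * b)⁻¹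
            = u * ((a * v) * b * a⁻¹) * u⁻¹ * b⁻¹ * v⁻¹ := by group
          _ = u * ((v * a) * b * a⁻¹) * u⁻¹ * b⁻¹ * v⁻¹ := by rw [(hvb a ha).eq]
          _ = (v * a * b * a⁻¹) * u * u⁻¹ * b⁻¹ * v⁻¹ := by
              rw [(hua (v * a * b * a⁻¹) (mul_mem (mul_mem (mul_mem hvE ha) hb) (inv_mem ha))).eq]
          _ = v * (a * b * a⁻¹ * b⁻¹) * v⁻¹ := by group
          _ = a * b * a⁻¹ * b⁻¹ := by
              rw [(hvb (a * b * a⁻¹ * b⁻¹)
                (mul_mem (mul_mem (mul_mem ha hb) (inv_mem ha)) (inv_mem hb))).eq,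
                mul_inv_cancel_right]
  -- `s` and `r` do not commute
  have hsr : s * r ≠ r * s := by
    intro hcomm
    rcases hsplit s' (mem_zc.mp hs'.1).1 with h | h
    · apply hsr'
      have hc := hcen s' (hE.le_P (mem_zc.mp hs'.1).1) (mem_zc.mp hs'.1).2 ((mem_zc.mp ht.1).2 s' h)
      exact ((mem_zc.mp hc).2 r hrP).symm
    · apply hsr'
      have hmem : s * s' ∈ zc E := mul_mem hs.1 hs'.1
      have hc := hcen (s * s') (hE.le_P (mem_zc.mp hmem).1) (mem_zc.mp hmem).2
        ((mem_zc.mp ht.1).2 _ h)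
      have hc' := (mem_zc.mp hc).2 r hrP
      apply mul_left_cancel (a := s)
      calc s * (s' * r) = (s * s') * r := by group
        _ = r * (s * s') := hc'.symm
        _ = (r * s) * s' := by group
        _ = (s * r) * s' := by rw [hcomm]
        _ = s * (r * s') := by group
  have hrE : r ∉ E := fun h => hsr (hse r h)
  have hsL : s ∉ L := fun h => hsr ((mem_zc.mp hr.1).2 s h)
  set e := t * r with he
  have heE : e ∈ E := hE.mul_mem_of_notMem S mE htP hrP htE hrE
  have hrte : r = t * e := by rw [he, ← mul_assoc, ht.2, one_mul]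
  -- the component of `r` in `E ⊓ F`
  obtain ⟨d, hdE, hdF, hd⟩ : ∃ d, d ∈ E ∧ d ∈ F ∧ (r = t * d ∨ r = t * (s * d)) := by
    rcases hsplit e heE with h | h
    · exact ⟨e, heE, h, Or.inl hrte⟩
    · exact ⟨s * e, mul_mem (mem_zc.mp hs.1).1 heE, h, Or.inr (by rw [← mul_assoc s, hs.2, one_mul, hrte])⟩
  have hdP : d ∈ (P : Subgroup G) := hE.le_P hdE
  have htF : ∀ x ∈ F, x * t = t * x := fun x hx => (mem_zc.mp ht.1).2 x hx
  -- `d` is central in `P`
  have hdc : d ∈ zc (P : Subgroup G) := by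
    refine hcen d hdP (fun x hx => ?_) (htF d hdF)
    -- first for elements of `E ⊓ F`
    have hkey : ∀ y ∈ E, y ∈ F → y * d = d * y := by
      intro y hyE hyF
      by_contra hne
      have hty : Commute y t := htF y hyF
      have hsy : Commute y s := (hse y hyE).symm
      have hyd : ∀ (q : G), r = q * d → Commute y q → y * r = r * y → False := by
        intro q hq hc hyr
        apply hne
        apply mul_left_cancel (a := q)
        calc q * (y * d) = (q * y) * d := by group
          _ = (y * q) * d := by rw [hc.eq]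
          _ = y * r := by rw [hq]; group
          _ = r * y := hyr
          _ = q * (d * y) := by rw [hq]; group
      obtain ⟨q, hq, hqy, hqs⟩ : ∃ q, r = q * d ∧ Commute y q ∧ ⁅q, s⁆ = ⁅t, s⁆ := by
        rcases hd with h | h
        · exact ⟨t, h, hty, rfl⟩
        · refine ⟨t * s, by rw [h, mul_assoc], hty.mul_right hsy, ?_⟩
          simp only [commutatorElement_def]; group
      by_cases hyL : y ∈ L
      · exact hyd q hq hqy ((mem_zc.mp hr.1).2 y hyL)
      have hyP := hE.le_P hyE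
      have hsyL : s * y ∈ L := hL.mul_mem_of_notMem S mL hsP hyP hsL hyL
      have hrsy : r * (s * y) = s * y * r := ((mem_zc.mp hr.1).2 _ hsyL).symm
      have hds : d * s = s * d := (hse d hdE).symm
      -- `⁅d, y⁆ = z`
      apply hgz
      suffices hdy : ⁅d, y⁆ = z by rw [← hdy]; exact hfix_comm d hdE y hyE
      have h1 : ⁅r, s⁆ * ⁅r, y⁆ = 1 := by
        have hc := S.central r hrP y hyP s hsP
        calc ⁅r, s⁆ * ⁅r, y⁆ = r * s * r⁻¹ * (s⁻¹ * ⁅r, y⁆) := by rw [commutatorElement_def r s]; group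
          _ = r * s * r⁻¹ * (⁅r, y⁆ * s⁻¹) := by
              rw [(Commute.inv_right (show Commute ⁅r, y⁆ s from hc)).eq]
          _ = (r * (s * y)) * r⁻¹ * (s * y)⁻¹ := by rw [commutatorElement_def]; group
          _ = 1 := by rw [hrsy]; group
      have h2 : ⁅r, s⁆ = ⁅t, s⁆ := by
        rw [hq, ← hqs]
        simp only [commutatorElement_def]
        calc q * d * s * (q * d)⁻¹ * s⁻¹ = q * (d * s) * d⁻¹ * q⁻¹ * s⁻¹ := by group
          _ = q * (s * d) * d⁻¹ * q⁻¹ * s⁻¹ := by rw [hds]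
          _ = q * s * q⁻¹ * s⁻¹ := by group
      have h3 : ⁅r, y⁆ = ⁅d, y⁆ := by
        have hcz : Commute ⁅d, y⁆ q := by
          have hqP : q ∈ (P : Subgroup G) := by
            have : q = r * d⁻¹ := by rw [hq]; group
            rw [this]; exact mul_mem hrP (inv_mem hdP)
          exact S.central d hdP y hyP q hqP
        calc ⁅r, y⁆ = q * (d * y * d⁻¹) * q⁻¹ * y⁻¹ := by rw [hq, commutatorElement_def]; group
          _ = q * (⁅d, y⁆ * y) * q⁻¹ * y⁻¹ := by rw [commutatorElement_def d y]; group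
          _ = (q * ⁅d, y⁆) * (y * q⁻¹) * y⁻¹ := by group
          _ = (⁅d, y⁆ * q) * (q⁻¹ * y) * y⁻¹ := by rw [hcz.symm.eq, hqy.inv_right.eq]
          _ = ⁅d, y⁆ := by group
      rw [h2, h3] at h1
      rw [eq_inv_of_mul_eq_one_right h1, commutatorElement_inv]
    rcases hsplit x hx with h | h
    · exact hkey x hx h
    · have := hkey (s * x) (mul_mem (mem_zc.mp hs.1).1 hx) h
      apply mul_left_cancel (a := s)
      calc s * (x * d) = (s * x) * d := by group
        _ = d * (s * x) := this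
        _ = (d * s) * x := by group
        _ = (s * d) * x := by rw [← hse d hdE]
        _ = s * (d * x) := by group
  rcases hd with hd | hd
  · -- `r = t d`: the two centralizers agree
    have hdall := (mem_zc.mp hdc).2
    apply le_antisymm
    · intro x hx
      by_contra hxF
      have hxP := hL.le_P hx
      have hsx : s * x ∈ F := hF.mul_mem_of_notMem S mF hsP hxP hsF hxF
      apply hst
      have hxr := (mem_zc.mp hr.1).2 x hx
      have hxt : x * t = t * x := by
        apply mul_right_cancel (b := d)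
        calc x * t * d = x * r := by rw [hd]; group
          _ = r * x := hxr
          _ = t * (d * x) := by rw [hd]; group
          _ = t * x * d := by rw [← hdall x hxP]; group
      apply mul_right_cancel (b := x)
      calc s * t * x = s * (t * x) := by group
        _ = s * x * t := by rw [← hxt]; group
        _ = t * (s * x) := htF _ hsx
        _ = t * s * x := by group
    · intro x hx
      by_contra hxL
      have hxP := hF.le_P hx
      have hsx : s * x ∈ L := hL.mul_mem_of_notMem S mL hsP hxP hsL hxL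
      apply hsr
      have hxr : x * r = r * x := by
        calc x * r = (x * t) * d := by rw [hd]; group
          _ = t * (x * d) := by rw [htF x hx]; group
          _ = r * x := by rw [hdall x hxP, hd]; group
      apply mul_right_cancel (b := x)
      calc s * r * x = s * (r * x) := by group
        _ = s * x * r := by rw [← hxr]; group
        _ = r * (s * x) := (mem_zc.mp hr.1).2 _ hsx
        _ = r * s * x := by group
  · -- `r = t s d`: a square would be the commutator
    exfalso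
    apply hgz
    have hdall := (mem_zc.mp hdc).2
    have hzd : z = d * d := by
      have hr2 := hr.2
      rw [hd] at hr2
      have h1 : t * s * t * s * (d * d) = 1 := by
        calc t * s * t * s * (d * d) = t * s * ((t * s) * d) * d := by group
          _ = t * s * (d * (t * s)) * d := by rw [hdall (t * s) (mul_mem htP hsP)]
          _ = 1 := by rw [← hr2]; group
      have h2 : z⁻¹ = t * s * t * s := by
        rw [hz, commutatorElement_inv, commutatorElement_def, inv_eq_of_mul_eq_one_right ht.2, hs2]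
      calc z = (z⁻¹)⁻¹ := (inv_inv z).symm
        _ = d * d := by rw [h2]; exact inv_eq_of_mul_eq_one_right h1
    rw [hzd]
    exact hfix_sq d (hE.zc_P_le_zc hdc)

/-- No fusion in `P` beyond `P` itself. -/
theorem no_fusion (S : Setup P M) {A : Type*} [Group A] [Finite A] (φ : A →* MulAut G)
    (hodd : Odd (Nat.card A)) (hP : ∀ a, (P : Subgroup G).map (φ a).toMonoidHom = P)
    (hM : ∀ a, M.map (φ a).toMonoidHom = M) (hPne : (P : Subgroup G) ≠ ⊥)
    (hmax : ∀ V : Subgroup G, V ≠ ⊥ → V ≤ M → M ≤ Subgroup.normalizer (V : Set G) →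
      (∀ a, V.map (φ a).toMonoidHom = V) → Subgroup.normalizer (V : Set G) = M) :
    ∀ x ∈ (P : Subgroup G), ∀ g : G, g * x * g⁻¹ ∈ (P : Subgroup G) →
      ∃ z ∈ (P : Subgroup G), z * x * z⁻¹ = g * x * g⁻¹ := by
  classical
  -- there is no bad subgroup
  have hnone : ∀ E : Subgroup G, ¬ Bad P M E := by
    intro E0 hE0
    obtain ⟨E, -, hE⟩ := Set.Finite.exists_le_maximal (Set.toFinite {E | Bad P M E}) hE0
    have hbadmap : ∀ (a : A) {F : Subgroup G}, Bad P M F → Bad P M (F.map (φ a).toMonoidHom) := by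
      intro a F hF
      obtain ⟨U, hU1, hUP, hU2, hUc, rfl, hnot⟩ := hF
      refine ⟨U.map (φ a).toMonoidHom, ?_, ?_, ?_, ?_, ?_, ?_⟩
      · have := Subgroup.map_mono (f := (φ a).toMonoidHom) hU1
        rwa [map_u1, hP] at this
      · exact le_of_le_of_eq (Subgroup.map_mono hUP) (hP a)
      · rintro _ ⟨u, hu, rfl⟩
        rw [← map_mul, hU2 u hu, map_one]
      · rintro _ ⟨u, hu, rfl⟩ _ ⟨v, hv, rfl⟩
        rw [← map_mul, hUc u hu v hv, map_mul]
      · rw [map_inf_centralizer_equiv, hP]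
      · intro hle
        apply hnot
        rw [← Subgroup.map_le_map_iff_of_injective (f := (φ a).toMonoidHom) (φ a).injective, hM a]
        rw [Subgroup.map_equiv_normalizer_eq]
        exact hle
    have hinv : ∀ (a b : A) (F : Subgroup G),
        (F.map (φ b).toMonoidHom).map (φ a).toMonoidHom = F.map (φ (a * b)).toMonoidHom := by
      intro a b F
      rw [Subgroup.map_map, map_mul]; rfl
    have hone : ∀ F : Subgroup G, F.map (φ 1).toMonoidHom = F := fun F => by
      rw [map_one]; exact Subgroup.map_id F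
    have hmaxE : ∀ a : A, ∀ E', Bad P M E' → E.map (φ a).toMonoidHom ≤ E' →
        E' = E.map (φ a).toMonoidHom := by
      intro a E' hE' hle
      refine le_antisymm ?_ hle
      have h1 : E ≤ E'.map (φ a⁻¹).toMonoidHom := by
        have := Subgroup.map_mono (f := (φ a⁻¹).toMonoidHom) hle
        rwa [hinv, inv_mul_cancel, hone] at this
      have h2 := Subgroup.map_mono (f := (φ a).toMonoidHom) (hE.2 (hbadmap a⁻¹ hE') h1)
      rwa [hinv, mul_inv_cancel, hone] at h2
    have hEb : ∀ a, Bad P M (E.map (φ a).toMonoidHom) := fun a => hbadmap a hE.1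
    have hnolink : ∀ a, ¬ Link E (E.map (φ a).toMonoidHom) := by
      intro a hl
      have h2 : Link (E.map (φ a).toMonoidHom) (E.map (φ (a * a)).toMonoidHom) := by
        obtain ⟨s, hs, t, ht, hne⟩ := hl
        refine ⟨φ a s, ?_, φ a t, ?_, fun e => hne ((φ a).injective (by rwa [map_mul, map_mul]))⟩
        · rw [← map_u1]; exact ⟨s, hs, rfl⟩
        · rw [← hinv, ← map_u1]; exact ⟨t, ht, rfl⟩
      have m1 : ∀ E', Bad P M E' → E ≤ E' → E' = E := fun E' h h' => le_antisymm (hE.2 h h') h'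
      have heq := link_unique S (hEb a) hE.1 (hEb (a * a)) (hmaxE a) m1 (hmaxE (a * a)) hl.symm h2
      -- the orbit has odd length
      have hpow : ∀ n : ℕ, E.map (φ ((a * a) ^ n)).toMonoidHom = E := by
        intro n
        induction n with
        | zero => rw [pow_zero, hone]
        | succ n ih => rw [pow_succ, ← hinv, heq, ih]
      obtain ⟨k, hk⟩ := hodd.of_dvd_nat (orderOf_dvd_natCard a)
      have hfix : E.map (φ a).toMonoidHom = E := by
        have := hpow (k + 1)
        rwa [← pow_two, ← pow_mul, show 2 * (k + 1) = orderOf a + 1 by omega, pow_succ,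
          pow_orderOf_eq_one, one_mul] at this
      rw [hfix] at hl
      obtain ⟨s, hs, t, ht, hne⟩ := hl
      exact hne (zc_comm hs.1 ht.1)
    let V : Subgroup G := ⨆ a : A, zc (E.map (φ a).toMonoidHom)
    have hVE : V ≤ E := iSup_le fun a => zc_le_of_not_link hE.1 (hEb a) (hnolink a)
    have hEV : zc E ≤ V := le_iSup_of_le (1 : A) (by rw [hone])
    have hVne : V ≠ ⊥ := by
      intro e
      have hzbot : zc (P : Subgroup G) = ⊥ := le_bot_iff.mp (e ▸ hE.1.zc_P_le_zc.trans hEV)
      haveI : Nontrivial (P : Subgroup G) := (Subgroup.nontrivial_iff_ne_bot _).mpr hPne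
      haveI := P.2.center_nontrivial
      obtain ⟨w, hw⟩ := exists_ne (1 : Subgroup.center (P : Subgroup G))
      refine hw (Subtype.ext (Subtype.ext ?_))
      have hmem : ((w : (P : Subgroup G)) : G) ∈ zc (P : Subgroup G) := mem_zc.mpr
        ⟨(w : (P : Subgroup G)).2, fun x hx => congrArg Subtype.val (Subgroup.mem_center_iff.mp w.2 ⟨x, hx⟩)⟩
      rw [hzbot, Subgroup.mem_bot] at hmem
      exact hmem
    have hVM : M ≤ Subgroup.normalizer (V : Set G) := by
      intro m hm
      refine mem_normalizer_of_conj fun x hx => ?_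
      have : x ∈ V.comap (MulAut.conj m).toMonoidHom := by
        refine (show V ≤ _ from iSup_le (fun a => ?_)) hx
        intro y hy
        refine Subgroup.mem_comap.mpr (Subgroup.mem_iSup_of_mem a ?_)
        exact conj_mem_zc ((hEb a).M_le_normalizer S hm) hy
      exact this
    have hVinv : ∀ a, V.map (φ a).toMonoidHom = V := by
      intro a
      rw [Subgroup.map_iSup]
      simp only [map_zc, hinv]
      exact (Equiv.mulLeft a).iSup_comp (g := fun b => zc (E.map (φ b).toMonoidHom))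
    have hN := hmax V hVne (hVE.trans (hE.1.le_P.trans S.le)) hVM hVinv
    exact hE.1.not_le (hN ▸ hE.1.le_normalizer_of_between S hEV hVE)
  intro x hx g hg
  have hch := CfsgLib.Transfer.alperin_set P (A := {x}) (g := g⁻¹)
    (Set.singleton_subset_iff.mpr hx) (by
      rintro _ ⟨a, rfl : a = x, rfl⟩
      change g⁻¹⁻¹ * a * g⁻¹ ∈ (P : Subgroup G)
      rw [inv_inv]; exact hg)
  suffices hstep : ∀ (D : Subgroup G) (d : G), CfsgLib.Transfer.IsTameInter P D →
      d ∈ Subgroup.normalizer (D : Set G) → ∃ k ∈ M, ∀ a ∈ D, k⁻¹ * a * k = d⁻¹ * a * d by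
    obtain ⟨k, hk, hk'⟩ := hch.exists_mem M hstep
    obtain ⟨z, hz, r, hr, he⟩ := S.split k⁻¹ (M.inv_mem hk)
    refine ⟨z, hz, ?_⟩
    have h := hk' x rfl
    rw [inv_inv] at h
    have hkk : k = (z * r)⁻¹ := by rw [← he, inv_inv]
    calc z * x * z⁻¹ = z * (x * r) * r⁻¹ * z⁻¹ := by group
      _ = z * (r * x) * r⁻¹ * z⁻¹ := by rw [hr x hx]
      _ = k⁻¹ * x * k := by rw [hkk]; group
      _ = g * x * g⁻¹ := h
  rintro D d ⟨Q, hDQ, hPD, -⟩ hd
  have hDP : D ≤ (P : Subgroup G) := hDQ ▸ inf_le_left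
  set N := Subgroup.normalizer (D : Set G) with hN
  set Cd : Subgroup G := (P : Subgroup G) ⊓ Subgroup.centralizer (D : Set G) with hCd
  set U : Subgroup G := u1 (D ⊔ Cd) with hU
  have hE0P : D ⊔ Cd ≤ (P : Subgroup G) := sup_le hDP inf_le_left
  have hU1 : u1 (P : Subgroup G) ≤ U := fun w hw => by
    refine mem_u1.mpr ⟨mem_zc.mpr ⟨Subgroup.mem_sup_right ⟨(mem_zc.mp hw.1).1, ?_⟩,
      fun e he => (mem_zc.mp hw.1).2 e (hE0P he)⟩, hw.2⟩
    exact Subgroup.mem_centralizer_iff.mpr fun e he => (mem_zc.mp hw.1).2 e (hDP he)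
  set E := (P : Subgroup G) ⊓ Subgroup.centralizer (U : Set G) with hE
  have hNEM : Subgroup.normalizer (E : Set G) ≤ M := by
    by_contra hnot
    exact hnone E ⟨U, hU1, fun w hw => hE0P (mem_zc.mp hw.1).1, fun w hw => hw.2,
      fun w hw v hv => zc_comm hw.1 hv.1, rfl, hnot⟩
  -- a Frattini argument inside `N`
  have hS : IsPGroup 2 ((P : Subgroup G).subgroupOf N) :=
    P.2.comap_of_injective _ N.subtype_injective
  have hidx : ¬ 2 ∣ ((P : Subgroup G).subgroupOf N).index := by
    rwa [Subgroup.inf_relIndex_right] at hPD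
  let C : Subgroup N := (Subgroup.centralizer (D : Set G)).subgroupOf N
  haveI : C.Normal := by
    constructor
    intro c hc u
    rw [Subgroup.mem_subgroupOf, Subgroup.mem_centralizer_iff] at hc ⊢
    intro a ha
    simpa using conj_comm u.2 (fun e he => hc e he) a ha
  let S0 : Sylow 2 N := hS.toSylow hidx
  obtain ⟨T, hT⟩ : ∃ T : Sylow 2 C, (T : Subgroup C).map C.subtype = (S0 : Subgroup N) ⊓ C := by
    obtain ⟨T, hT⟩ := exists_sylow_inf S0 C
    exact ⟨T, by rw [hT, Subgroup.subgroupOf_map_subtype]⟩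
  have hfr : (⟨d, hd⟩ : N) ∈ C ⊔ Subgroup.normalizer
      (((T : Subgroup C).map C.subtype : Subgroup N) : Set N) := by
    rw [sup_comm, Sylow.normalizer_sup_eq_top T]; trivial
  obtain ⟨c, hc, y, hy, hcy⟩ := Subgroup.mem_sup_of_normal_left.mp hfr
  rw [hT] at hy
  have hconj : ∀ n ∈ Cd, (y : G) * n * (y : G)⁻¹ ∈ Cd := by
    intro n hn
    have hnN : n ∈ N := mem_normalizer_of_conj fun a ha => by
      rw [← Subgroup.mem_centralizer_iff.mp hn.2 a ha, mul_inv_cancel_right]; exact ha
    have := (Subgroup.mem_normalizer_iff.mp hy ⟨n, hnN⟩).mp ⟨hn.1, hn.2⟩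
    exact ⟨this.1, this.2⟩
  have hyM : (y : G) ∈ M := by
    refine hNEM ?_
    have hy0 : (y : G) ∈ Subgroup.normalizer ((D ⊔ Cd : Subgroup G) : Set G) := by
      refine mem_normalizer_of_conj fun n hn => ?_
      have hle : D ⊔ Cd ≤ (D ⊔ Cd).comap (MulAut.conj (y : G)).toMonoidHom :=
        sup_le (fun n hn => Subgroup.mem_comap.mpr (Subgroup.mem_sup_left
          ((Subgroup.mem_normalizer_iff.mp y.2 n).mp hn)))
          (fun n hn => Subgroup.mem_comap.mpr (Subgroup.mem_sup_right (hconj n hn)))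
      exact hle hn
    refine mem_normalizer_of_conj fun n hn => S.conj_mem hU1 (fun w hw => ?_) hn.1 hn.2
    have := conj_mem_u1 (inv_mem hy0) hw
    rwa [inv_inv] at this
  refine ⟨(y : G), hyM, fun a ha => ?_⟩
  have hca : a * (c : G) = (c : G) * a := Subgroup.mem_centralizer_iff.mp hc a ha
  have hdeq : d = (c : G) * (y : G) := by rw [← Subgroup.coe_mul, hcy]
  calc (y : G)⁻¹ * a * (y : G) = (y : G)⁻¹ * ((c : G)⁻¹ * ((c : G) * a)) * y := by group
    _ = (y : G)⁻¹ * ((c : G)⁻¹ * (a * c)) * y := by rw [hca]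
    _ = d⁻¹ * a * d := by rw [hdeq]; group

end CfsgLib.NilMaxAction
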